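import Mathlib

/-!
Counting with three-cycles: the doubly transitive case of the minimal degree bound.
-/

set_option autoImplicit false

namespace Cfsg.Agent.PrimDeg

open Equiv

variable {Ω : Type*} [Fintype Ω] [DecidableEq Ω]

/-- The commutator of two permutations whose supports meet in one point is a three-cycle. -/
theorem isThreeCycle_commutator_of_supports_meet_once (p q : Perm Ω) (α : Ω)
    (h : p.support ∩ q.support = {α}) : (p * q * p⁻¹ * q⁻¹).IsThreeCycle := by
  have hαp : α ∈ p.support := (Finset.mem_inter.1 (h ▸ Finset.mem_singleton_self α)).1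
  have hαq : α ∈ q.support := (Finset.mem_inter.1 (h ▸ Finset.mem_singleton_self α)).2
  have only : ∀ x, x ∈ p.support → x ≠ α → q x = x := by
    intro x hx hne
    by_contra hq
    exact hne (Finset.mem_singleton.1 (h ▸ Finset.mem_inter.2 ⟨hx, Perm.mem_support.2 hq⟩))
  have only' : ∀ x, x ∈ q.support → x ≠ α → p x = x := by
    intro x hx hne
    by_contra hp
    exact hne (Finset.mem_singleton.1 (h ▸ Finset.mem_inter.2 ⟨Perm.mem_support.2 hp, hx⟩))
  have inv_fix : ∀ (s : Perm Ω) x, s x = x → s⁻¹ x = x := fun s x hs => by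
    rw [Perm.inv_eq_iff_eq, hs]
  have hpα : p α ∈ p.support := Perm.apply_mem_support.2 hαp
  have hqα : q α ∈ q.support := Perm.apply_mem_support.2 hαq
  have hpα' : p α ≠ α := Perm.mem_support.1 hαp
  have hqα' : q α ≠ α := Perm.mem_support.1 hαq
  have hqpα : q (p α) = p α := only _ hpα hpα'
  have hpqα : p (q α) = q α := only' _ hqα hqα'
  have hne : p α ≠ q α := fun e => by
    apply hpα'
    exact Finset.mem_singleton.1 (h ▸ Finset.mem_inter.2 ⟨hpα, e ▸ hqα⟩)
  have e1 : (p * q * p⁻¹ * q⁻¹) α = p α := by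
    have hm : q⁻¹ α ∈ q.support := by
      rw [← Perm.apply_mem_support (f := q)]; simpa using hαq
    have hn : q⁻¹ α ≠ α := fun e => hqα' (by conv_lhs => rw [← e]; simp)
    simp only [Perm.mul_apply]
    rw [inv_fix p _ (only' _ hm hn)]
    simp
  have e2 : (p * q * p⁻¹ * q⁻¹) (p α) = q α := by
    simp only [Perm.mul_apply]
    rw [inv_fix q _ hqpα]
    simp [hpqα]
  have e3 : (p * q * p⁻¹ * q⁻¹) (q α) = α := by
    have hm : p⁻¹ α ∈ p.support := by
      rw [← Perm.apply_mem_support (f := p)]; simpa using hαp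
    have hn : p⁻¹ α ≠ α := fun e => hpα' (by conv_lhs => rw [← e]; simp)
    have e : q⁻¹ (q α) = α := by simp
    simp only [Perm.mul_apply]
    rw [e, only _ hm hn]
    simp
  have e4 : ∀ x, x ≠ α → x ≠ p α → x ≠ q α → (p * q * p⁻¹ * q⁻¹) x = x := by
    intro x h1 h2 h3
    simp only [Perm.mul_apply]
    by_cases hp : x ∈ p.support
    · have hm : p⁻¹ x ∈ p.support := by
        rw [← Perm.apply_mem_support (f := p)]; simpa using hp
      have hn : p⁻¹ x ≠ α := fun e => h2 (by rw [← e]; simp)
      rw [inv_fix q _ (only _ hp h1), only _ hm hn]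
      simp
    · have hpx : p x = x := Perm.notMem_support.1 hp
      by_cases hq : x ∈ q.support
      · have hm : q⁻¹ x ∈ q.support := by
          rw [← Perm.apply_mem_support (f := q)]; simpa using hq
        have hn : q⁻¹ x ≠ α := fun e => h3 (by rw [← e]; simp)
        rw [inv_fix p _ (only' _ hm hn)]
        simp [hpx]
      · have hqx : q x = x := Perm.notMem_support.1 hq
        rw [inv_fix q _ hqx, inv_fix p _ hpx, hqx, hpx]
  have hsup : (p * q * p⁻¹ * q⁻¹).support = {α, p α, q α} := by
    ext x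
    simp only [Finset.mem_insert, Finset.mem_singleton, Perm.mem_support]
    constructor
    · intro hx
      by_contra hc
      push Not at hc
      exact hx (e4 x hc.1 hc.2.1 hc.2.2)
    · rintro (rfl | rfl | rfl)
      · rw [e1]; exact hpα'
      · rw [e2]; exact hne.symm
      · rw [e3]; exact hqα'.symm
  rw [← card_support_eq_three_iff, hsup]
  simp [hpα'.symm, hqα'.symm, hne]

variable {G : Type*} [Group G] [Fintype G] [MulAction G Ω]

/-- In a doubly transitive group without a three-cycle two translates of a support meet often. -/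
theorem card_le_sq_of_two_transitive
    (h2 : ∀ a a' b b' : Ω, a ≠ a' → b ≠ b' → ∃ h : G, h • a = b ∧ h • a' = b')
    (Δ : Finset Ω) (hΔ : 2 ≤ Δ.card)
    (hno : ∀ h : G, (Δ.filter fun a => h • a ∈ Δ).card ≠ 1) :
    Fintype.card Ω ≤ Δ.card ^ 2 := by
  classical
  by_contra hlt
  push Not at hlt
  obtain ⟨u, hu, v, hv, huv⟩ := Finset.one_lt_card.1 hΔ
  let N1 := (Finset.univ.filter fun h : G => h • u = u).card
  let N2 := (Finset.univ.filter fun h : G => h • u = u ∧ h • v = v).card
  have N2pos : 0 < N2 := Finset.card_pos.2 ⟨1, by simp⟩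
  have hone : ∀ a b : Ω, (Finset.univ.filter fun h : G => h • a = b).card = N1 := by
    intro a b
    have ex : ∀ c : Ω, ∃ k : G, k • u = c := by
      intro c
      by_cases hc : c = u
      · exact ⟨1, by simp [hc]⟩
      · obtain ⟨k, hk, -⟩ := h2 u v c u huv hc
        exact ⟨k, hk⟩
    obtain ⟨k, hk⟩ := ex a
    obtain ⟨l, hl⟩ := ex b
    refine Finset.card_bij (fun h _ => l⁻¹ * h * k) ?_ ?_ ?_
    · intro h hh
      simp only [Finset.mem_filter, Finset.mem_univ, true_and] at hh ⊢
      rw [mul_smul, mul_smul, hk, hh, ← hl, inv_smul_smul]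
    · intro x _ y _ e; simpa using e
    · intro h hh
      simp only [Finset.mem_filter, Finset.mem_univ, true_and] at hh
      refine ⟨l * h * k⁻¹, ?_, by group⟩
      simp [mul_smul, ← hk, hh, hl]
  have htwo : ∀ a a' b b' : Ω, a ≠ a' → b ≠ b' →
      (Finset.univ.filter fun h : G => h • a = b ∧ h • a' = b').card = N2 := by
    intro a a' b b' ha hb
    obtain ⟨k, hk, hk'⟩ := h2 u v a a' huv ha
    obtain ⟨l, hl, hl'⟩ := h2 u v b b' huv hb
    refine Finset.card_bij (fun h _ => l⁻¹ * h * k) ?_ ?_ ?_
    · intro h hh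
      simp only [Finset.mem_filter, Finset.mem_univ, true_and] at hh ⊢
      constructor
      · rw [mul_smul, mul_smul, hk, hh.1, ← hl, inv_smul_smul]
      · rw [mul_smul, mul_smul, hk', hh.2, ← hl', inv_smul_smul]
    · intro x _ y _ e; simpa using e
    · intro h hh
      simp only [Finset.mem_filter, Finset.mem_univ, true_and] at hh
      refine ⟨l * h * k⁻¹, ?_, by group⟩
      simp [mul_smul, ← hk, ← hk', hh.1, hh.2, hl, hl']
  have hN : N1 = (Fintype.card Ω - 1) * N2 := by
    show (Finset.univ.filter fun h : G => h • u = u).card = _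
    rw [Finset.card_eq_sum_card_fiberwise (f := fun h : G => h • v)
      (t := Finset.univ.erase u)]
    · rw [Finset.sum_congr rfl (g := fun _ => N2)]
      · simp
      · intro b hb
        rw [Finset.filter_filter]
        exact htwo u v u b huv (Finset.ne_of_mem_erase hb).symm
    · intro h hh
      simp only [Finset.coe_filter, Finset.mem_univ, true_and, Set.mem_ofPred_eq] at hh
      simp only [Finset.coe_erase, Finset.coe_univ, Set.mem_sdiff, Set.mem_univ, true_and,
        Set.mem_singleton_iff]
      intro e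
      exact huv (MulAction.injective h (hh.trans e.symm))
  let S : G → Finset Ω := fun h => Δ.filter fun a => h • a ∈ Δ
  have hge : ∑ h : G, (S h).card ≤ ∑ h : G, (S h).offDiag.card := by
    refine Finset.sum_le_sum fun h _ => ?_
    rw [Finset.offDiag_card]
    have : (S h).card ≠ 1 := hno h
    rcases Nat.eq_zero_or_pos (S h).card with e | e
    · simp [e]
    · have : 2 * (S h).card ≤ (S h).card * (S h).card := Nat.mul_le_mul_right _ (by omega)
      omega
  have hs1 : ∑ h : G, (S h).card = Δ.card * Δ.card * N1 := by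
    have e : ∀ h : G, (S h).card = ∑ a ∈ Δ, ∑ b ∈ Δ, if h • a = b then 1 else 0 := by
      intro h
      rw [show (S h).card = _ from Finset.card_filter _ _]
      exact Finset.sum_congr rfl fun a _ => (Finset.sum_ite_eq Δ (h • a) fun _ => 1).symm
    simp only [e]
    rw [Finset.sum_comm]
    rw [Finset.sum_congr rfl (g := fun _ => Δ.card * N1)]
    · simp [mul_assoc]
    · intro a _
      rw [Finset.sum_comm, Finset.sum_congr rfl (g := fun _ => N1)]
      · simp
      · intro b _
        rw [← hone a b, Finset.card_filter]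
  have hs2 : ∑ h : G, (S h).offDiag.card = Δ.offDiag.card * (Δ.offDiag.card * N2) := by
    have e : ∀ h : G, (S h).offDiag.card =
        ∑ x ∈ Δ.offDiag, ∑ y ∈ Δ.offDiag, if h • x.1 = y.1 ∧ h • x.2 = y.2 then 1 else 0 := by
      intro h
      have h1 : (S h).offDiag = Δ.offDiag.filter fun x => (h • x.1, h • x.2) ∈ Δ.offDiag := by
        ext x
        simp only [S, Finset.mem_offDiag, Finset.mem_filter]
        constructor
        · rintro ⟨⟨a1, a2⟩, ⟨b1, b2⟩, c⟩
          exact ⟨⟨a1, b1, c⟩, a2, b2, fun e => c (MulAction.injective h e)⟩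
        · rintro ⟨⟨a1, b1, c⟩, a2, b2, -⟩
          exact ⟨⟨a1, a2⟩, ⟨b1, b2⟩, c⟩
      rw [h1, Finset.card_filter]
      refine Finset.sum_congr rfl fun x _ => ?_
      rw [← Finset.sum_ite_eq Δ.offDiag (h • x.1, h • x.2) (fun _ => 1)]
      refine Finset.sum_congr rfl fun y _ => ?_
      simp only [Prod.ext_iff]
    simp only [e]
    rw [Finset.sum_comm]
    rw [Finset.sum_congr rfl (g := fun _ => Δ.offDiag.card * N2)]
    · simp
    · intro x hx
      rw [Finset.sum_comm, Finset.sum_congr rfl (g := fun _ => N2)]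
      · simp
      · intro y hy
        rw [← htwo x.1 x.2 y.1 y.2 (Finset.mem_offDiag.1 hx).2.2 (Finset.mem_offDiag.1 hy).2.2,
          Finset.card_filter]
  rw [hs1, hs2, hN, Finset.offDiag_card] at hge
  generalize hm : Δ.card = m at *
  generalize Fintype.card Ω = n at *
  obtain ⟨k, rfl⟩ : ∃ k, m = k + 1 := ⟨m - 1, by omega⟩
  have hk : (k + 1) * (k + 1) - (k + 1) = (k + 1) * k := by
    rw [Nat.mul_succ]; simp
  rw [hk] at hge
  have : (k + 1) * (k + 1) * ((n - 1) * N2) ≤ (k + 1) * (k + 1) * (k * k * N2) := by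
    calc (k + 1) * (k + 1) * ((n - 1) * N2) ≤ (k + 1) * k * ((k + 1) * k * N2) := hge
      _ = (k + 1) * (k + 1) * (k * k * N2) := by ring
  have h3 : n - 1 ≤ k * k :=
    Nat.le_of_mul_le_mul_right (Nat.le_of_mul_le_mul_left this (by positivity)) N2pos
  have : k * k + 1 < (k + 1) ^ 2 := by nlinarith
  omega

end Cfsg.Agent.PrimDeg
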